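import Mathlib
import Cfsg.Agent.Lib.Classical.UnitaryCenter

/-!
The group `U` of pairs `(a, b)` in a field with `q²` elements with `b + b^q = a^(q+1)`, which in characteristic two is
a Sylow 2-subgroup of `SU₃(q)`.
-/

set_option autoImplicit false
set_option linter.unusedSectionVars false
set_option linter.style.haveILetI false

namespace Cfsg.Agent.PSU2

open Matrix Cfsg.Agent.Lib.Classical

variable {F : Type*} [Field F] [Fintype F] {q : ℕ}

/-- The group of pairs. -/
def UU (_hF : Fintype.card F = q ^ 2) : Type _ := {p : F × F // p.2 + p.2 ^ q = p.1 ^ (q + 1)}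

variable (hF : Fintype.card F = q ^ 2)

section group

lemma pow_succ_conj (a : F) : a ^ (q + 1) = a ^ q * a := pow_succ a q

instance UU.group : Group (UU hF) where
  mul x y := ⟨(x.1.1 + y.1.1, x.1.2 + y.1.2 + x.1.1 * y.1.1 ^ q), by
    have hx := x.2
    have hy := y.2
    simp only [pow_succ_conj] at hx hy ⊢
    rw [pow_q_add hF, pow_q_add hF, pow_q_add hF, mul_pow, pow_q_pow_q hF]
    linear_combination hx + hy⟩
  one := ⟨(0, 0), by
    have := one_lt_q hF
    simp [show q ≠ 0 by omega]⟩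
  inv x := ⟨(-x.1.1, -x.1.2 + x.1.1 ^ (q + 1)), by
    have hx := x.2
    simp only [pow_succ_conj] at hx ⊢
    rw [pow_q_add hF, conjQ_neg hF, mul_pow, pow_q_pow_q hF, conjQ_neg hF]
    linear_combination -hx⟩
  mul_assoc x y z := by
    apply Subtype.ext
    apply Prod.ext
    · exact add_assoc _ _ _
    · show x.1.2 + y.1.2 + x.1.1 * y.1.1 ^ q + z.1.2 + (x.1.1 + y.1.1) * z.1.1 ^ q =
        x.1.2 + (y.1.2 + z.1.2 + y.1.1 * z.1.1 ^ q) + x.1.1 * (y.1.1 + z.1.1) ^ q
      rw [pow_q_add hF]
      ring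
  one_mul x := by
    have := one_lt_q hF
    apply Subtype.ext
    apply Prod.ext
    · exact zero_add _
    · show (0 : F) + x.1.2 + 0 * x.1.1 ^ q = x.1.2
      ring
  mul_one x := by
    have := one_lt_q hF
    apply Subtype.ext
    apply Prod.ext
    · exact add_zero _
    · show x.1.2 + (0 : F) + x.1.1 * (0 : F) ^ q = x.1.2
      rw [zero_pow (by omega)]
      ring
  inv_mul_cancel x := by
    apply Subtype.ext
    apply Prod.ext
    · exact neg_add_cancel _
    · show (-x.1.2 + x.1.1 ^ (q + 1)) + x.1.2 + (-x.1.1) * x.1.1 ^ q = 0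
      rw [pow_succ_conj]
      ring

variable {hF}

/-- first coordinate -/
def ca (x : UU hF) : F := x.1.1
/-- second coordinate -/
def cb (x : UU hF) : F := x.1.2

lemma cond (x : UU hF) : cb x + cb x ^ q = ca x ^ (q + 1) := x.2

lemma UU_ext {x y : UU hF} (h1 : ca x = ca y) (h2 : cb x = cb y) : x = y :=
  Subtype.ext (Prod.ext h1 h2)

/-- constructor -/
def mkU (hF : Fintype.card F = q ^ 2) (a b : F) (h : b + b ^ q = a ^ (q + 1)) : UU hF := ⟨(a, b), h⟩

@[simp] lemma ca_mkU (a b : F) (h : b + b ^ q = a ^ (q + 1)) : ca (mkU hF a b h) = a := rfl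
@[simp] lemma cb_mkU (a b : F) (h : b + b ^ q = a ^ (q + 1)) : cb (mkU hF a b h) = b := rfl
lemma ca_mul (x y : UU hF) : ca (x * y) = ca x + ca y := rfl
lemma cb_mul (x y : UU hF) : cb (x * y) = cb x + cb y + ca x * ca y ^ q := rfl
lemma ca_one : ca (1 : UU hF) = 0 := rfl
lemma cb_one : cb (1 : UU hF) = 0 := rfl
lemma ca_inv (x : UU hF) : ca x⁻¹ = - ca x := rfl
lemma cb_inv (x : UU hF) : cb x⁻¹ = - cb x + ca x ^ (q + 1) := rfl

end group

section char2

variable {hF} (h2 : (2 : F) = 0)
include h2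

/-- The matrix. -/
def mX (a b : F) (q : ℕ) : Matrix (Fin 3) (Fin 3) F :=
  !![1 + b, b, a; b, 1 + b, a; a ^ q, a ^ q, 1]

omit h2 in
lemma mX_apply (a b : F) :
    mX a b q = !![1 + b, b, a; b, 1 + b, a; a ^ q, a ^ q, 1] := rfl

lemma mX_mul (hF : Fintype.card F = q ^ 2) (a b a' b' : F) :
    mX a b q * mX a' b' q = mX (a + a') (b + b' + a * a' ^ q) q := by
  have hq := pow_q_add hF a a'
  ext i j
  fin_cases i <;> fin_cases j <;>
    simp [mX, Matrix.mul_apply, Fin.sum_univ_three, hq] <;> grind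

lemma mX_det (a b : F) : (mX a b q).det = 1 := by
  rw [Matrix.det_fin_three]
  simp [mX]
  grind

lemma mX_zero (hq : 1 < q) : mX (0 : F) 0 q = 1 := by
  ext i j
  fin_cases i <;> fin_cases j <;> simp [mX, show q ≠ 0 by omega]

/-- Unitarity. -/
lemma mX_herm (hF : Fintype.card F = q ^ 2) (a b : F) (h : b + b ^ q = a ^ (q + 1)) (u v : Fin 3 → F) :
    Cfsg.hermForm 3 F q (mX a b q *ᵥ u) (mX a b q *ᵥ v) = Cfsg.hermForm 3 F q u v := by
  have hq := one_lt_q hF
  have hadd := pow_q_add hF
  have hpp := pow_q_pow_q hF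
  have h' : b + b ^ q = a ^ q * a := by rw [h, pow_succ]
  simp only [Cfsg.hermForm, Fin.sum_univ_three, mX, Matrix.mulVec, dotProduct, Matrix.of_apply, Matrix.cons_val',
    Matrix.cons_val_zero, Matrix.cons_val_one, Matrix.empty_val', Matrix.cons_val_fin_one, Fin.isValue, Matrix.cons_val]
  simp only [hadd, mul_pow, hpp, one_pow]
  generalize a ^ q = a' at *
  generalize b ^ q = b' at *
  generalize u 0 = u0
  generalize u 1 = u1
  generalize u 2 = u2
  generalize v 0 ^ q = v0
  generalize v 1 ^ q = v1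
  generalize v 2 ^ q = v2
  grind

/-- The embedding into `SU₃`. -/
def toSU (hF : Fintype.card F = q ^ 2) (h2 : (2 : F) = 0) : UU hF →* Cfsg.SU 3 F q where
  toFun x := mkSU (mX (ca x) (cb x) q) (mX_det h2 _ _) (mX_herm h2 hF _ _ (cond x))
  map_one' := by
    apply Subtype.ext
    apply Subtype.ext
    show mX (0 : F) 0 q = 1
    exact mX_zero h2 (one_lt_q hF)
  map_mul' x y := by
    apply Subtype.ext
    apply Subtype.ext
    show mX (ca x + ca y) (cb x + cb y + ca x * ca y ^ q) q = mX (ca x) (cb x) q * mX (ca y) (cb y) q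
    rw [mX_mul h2 hF]

lemma toSU_coe (x : UU hF) :
    (((toSU hF h2 x : Cfsg.SU 3 F q) : Matrix.SpecialLinearGroup (Fin 3) F) : Matrix (Fin 3) (Fin 3) F) =
      mX (ca x) (cb x) q := rfl

lemma sq_ca (x : UU hF) : ca (x * x) = 0 := by
  rw [ca_mul]
  linear_combination (ca x) * h2

lemma sq_cb (x : UU hF) : cb (x * x) = ca x ^ (q + 1) := by
  rw [cb_mul, pow_succ]
  linear_combination (cb x) * h2

omit h2 in
lemma zero_pow_q (hF : Fintype.card F = q ^ 2) : (0 : F) ^ q = 0 := zero_pow (by have := one_lt_q hF; omega)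

lemma fourth (x : UU hF) : (x * x) * (x * x) = 1 := by
  apply UU_ext
  · rw [ca_mul, sq_ca h2, ca_one]
    ring
  · rw [cb_mul, sq_cb h2, sq_ca h2, cb_one, zero_mul, add_zero]
    linear_combination (ca x ^ (q + 1)) * h2

lemma toSU_inj : Function.Injective (toSU hF h2) := by
  rw [injective_iff_map_eq_one]
  intro x hx
  have h := toSU_coe h2 x
  rw [hx] at h
  have e : (((1 : Cfsg.SU 3 F q) : Matrix.SpecialLinearGroup (Fin 3) F) : Matrix (Fin 3) (Fin 3) F) = 1 := rfl
  rw [e] at h
  have h1 := congrFun (congrFun h 0) 2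
  have h3 := congrFun (congrFun h 0) 1
  simp [mX] at h1 h3
  exact UU_ext h1.symm h3.symm

omit h2 in
lemma exists_b (hF : Fintype.card F = q ^ 2) (a : F) : ∃ b : F, b + b ^ q = a ^ (q + 1) := exists_trace_eq hF _ (norm_pow_q hF a)

omit h2 in
lemma exists_trace_one (hF : Fintype.card F = q ^ 2) : ∃ t : F, t + t ^ q = 1 := exists_trace_eq hF 1 (one_pow _)

lemma fixed_of_zero {x : UU hF} (hx : ca x = 0) : cb x ^ q = cb x := by
  have h := cond x
  rw [hx, pow_succ, zero_pow_q hF, zero_mul, add_comm] at h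
  linear_combination h - (cb x) * h2

/-- The central elements. -/
lemma mem_center_iff (x : UU hF) : x ∈ Subgroup.center (UU hF) ↔ ca x = 0 := by
  rw [Subgroup.mem_center_iff]
  constructor
  · intro hc
    by_contra ha
    obtain ⟨t, ht⟩ := exists_trace_one hF
    obtain ⟨b, hb⟩ := exists_b hF (ca x * t)
    have hcomm := hc (mkU hF (ca x * t) b hb)
    have h3 := congrArg cb hcomm
    rw [cb_mul, cb_mul] at h3
    simp only [ca_mkU, cb_mkU, mul_pow] at h3
    have hne : ca x * ca x ^ q ≠ 0 := by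
      apply mul_ne_zero ha
      exact pow_ne_zero _ ha
    apply hne
    have : (ca x * ca x ^ q) * (t + t ^ q) = 0 := by
      linear_combination h3 + (ca x * ca x ^ q * t ^ q) * h2
    rw [ht, mul_one] at this
    exact this
  · intro ha y
    apply UU_ext
    · rw [ca_mul, ca_mul, add_comm]
    · rw [cb_mul, cb_mul, ha, zero_pow_q hF]
      ring

/-- The order of the centre. -/
theorem card_center : Nat.card (Subgroup.center (UU hF)) = q := by
  refine (Nat.card_congr ?_).trans (card_fixed hF)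
  refine ⟨fun x => ⟨cb x.1, fixed_of_zero h2 ((mem_center_iff h2 x.1).mp x.2)⟩,
    fun y => ⟨mkU hF 0 y.1 ?_, (mem_center_iff h2 _).mpr rfl⟩, ?_, ?_⟩
  · have h1 := y.2
    rw [h1, pow_succ, zero_pow_q hF, zero_mul]
    linear_combination y.1 * h2
  · intro x
    apply Subtype.ext
    apply UU_ext
    · exact ((mem_center_iff h2 x.1).mp x.2).symm
    · rfl
  · intro y
    rfl

/-- The order of the group. -/
theorem card_UU : Nat.card (UU hF) = q ^ 3 := by
  classical
  let π : UU hF →* Multiplicative F :=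
    { toFun := fun x => Multiplicative.ofAdd (ca x)
      map_one' := rfl
      map_mul' := fun x y => by
        rw [ca_mul]
        rfl }
  have hsurj : Function.Surjective π := by
    intro a
    obtain ⟨b, hb⟩ := exists_b hF (Multiplicative.toAdd a)
    exact ⟨mkU hF _ b hb, rfl⟩
  have hker : Nat.card π.ker = q := by
    refine (Nat.card_congr ?_).trans (card_center h2 (hF := hF))
    refine ⟨fun x => ⟨x.1, (mem_center_iff h2 x.1).mpr ?_⟩, fun x => ⟨x.1, ?_⟩, ?_, ?_⟩
    · have h1 : π x.1 = 1 := x.2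
      exact h1
    · have h1 := (mem_center_iff h2 x.1).mp x.2
      show π x.1 = 1
      show Multiplicative.ofAdd (ca x.1) = 1
      rw [h1]
      rfl
    · intro x
      rfl
    · intro x
      rfl
  have h1 := Subgroup.card_mul_index π.ker
  rw [Subgroup.index_ker, MonoidHom.range_eq_top.mpr hsurj, Subgroup.card_top, hker] at h1
  have h3 : Nat.card (Multiplicative F) = q ^ 2 := by
    rw [← hF, ← Nat.card_eq_fintype_card]
    rfl
  rw [← h1, h3]
  ring

end char2

instance : Finite (UU hF) := by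
  unfold UU
  infer_instance

end Cfsg.Agent.PSU2
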