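import Mathlib
import Cfsg.Agent.Lib.PSU2.UU
import Cfsg.Prelude.Def_LieRecognition

/-!
In characteristic two, the group `U` is a Suzuki 2-group.
-/

set_option autoImplicit false
set_option linter.unusedSectionVars false
set_option linter.style.haveILetI false

namespace Cfsg.Agent.PSU2

open Matrix Cfsg.Agent.Lib.Classical
open scoped commutatorElement

variable {F : Type*} [Field F] [Fintype F] {q : ℕ} {hF : Fintype.card F = q ^ 2}

/-- scaling by a fixed element -/
def scaleFun (α : F) (hα : α ^ q = α) (x : UU hF) : UU hF :=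
  mkU hF (α * ca x) (α ^ 2 * cb x) (by
    have h := cond x
    rw [mul_pow (α ^ 2) (cb x) q, ← pow_mul, mul_comm 2 q, pow_mul, hα, mul_pow α (ca x) (q + 1), pow_succ α q, hα, ← h]
    ring)

@[simp] lemma ca_scaleFun (α : F) (hα : α ^ q = α) (x : UU hF) : ca (scaleFun α hα x) = α * ca x := rfl
@[simp] lemma cb_scaleFun (α : F) (hα : α ^ q = α) (x : UU hF) : cb (scaleFun α hα x) = α ^ 2 * cb x := rfl

/-- the group of fixed units -/
def Gq (F : Type*) [Field F] (q : ℕ) : Subgroup Fˣ where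
  carrier := {α | (α : F) ^ q = α}
  one_mem' := by simp
  mul_mem' := by
    intro a b ha hb
    have ha' : (a : F) ^ q = a := ha
    have hb' : (b : F) ^ q = b := hb
    show ((a * b : Fˣ) : F) ^ q = ((a * b : Fˣ) : F)
    rw [Units.val_mul, mul_pow, ha', hb']
  inv_mem' := by
    intro a ha
    have ha' : (a : F) ^ q = a := ha
    show ((a⁻¹ : Fˣ) : F) ^ q = ((a⁻¹ : Fˣ) : F)
    rw [Units.val_inv_eq_inv_val, inv_pow, ha']

lemma Gq_prop (α : Gq F q) : ((α : Fˣ) : F) ^ q = ((α : Fˣ) : F) := α.2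

/-- the action -/
noncomputable def Phi (hF : Fintype.card F = q ^ 2) : Gq F q →* MulAut (UU hF) where
  toFun α :=
    { toFun := scaleFun ((α : Fˣ) : F) (Gq_prop α)
      invFun := scaleFun ((α⁻¹ : Gq F q) : Fˣ) (Gq_prop α⁻¹)
      left_inv := by
        intro x
        have h : (((α⁻¹ : Gq F q) : Fˣ) : F) * ((α : Fˣ) : F) = 1 := by
          show (((α⁻¹ * α : Gq F q) : Fˣ) : F) = 1
          rw [inv_mul_cancel]
          rfl
        apply UU_ext
        · rw [ca_scaleFun, ca_scaleFun, ← mul_assoc, h, one_mul]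
        · rw [cb_scaleFun, cb_scaleFun, ← mul_assoc, ← mul_pow, h, one_pow, one_mul]
      right_inv := by
        intro x
        have h : ((α : Fˣ) : F) * (((α⁻¹ : Gq F q) : Fˣ) : F) = 1 := by
          show (((α * α⁻¹ : Gq F q) : Fˣ) : F) = 1
          rw [mul_inv_cancel]
          rfl
        apply UU_ext
        · rw [ca_scaleFun, ca_scaleFun, ← mul_assoc, h, one_mul]
        · rw [cb_scaleFun, cb_scaleFun, ← mul_assoc, ← mul_pow, h, one_pow, one_mul]
      map_mul' := by
        intro x y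
        have hα := Gq_prop α
        apply UU_ext
        · rw [ca_mul, ca_scaleFun, ca_scaleFun, ca_scaleFun, ca_mul]
          ring
        · rw [cb_mul, cb_scaleFun, cb_scaleFun, cb_scaleFun, cb_mul, ca_scaleFun, ca_scaleFun, mul_pow, hα]
          ring }
  map_one' := by
    ext x
    apply UU_ext
    · show (1 : F) * ca x = ca x
      rw [one_mul]
    · show (1 : F) ^ 2 * cb x = cb x
      rw [one_pow, one_mul]
  map_mul' α β := by
    ext x
    apply UU_ext
    · show ((α : Fˣ) : F) * ((β : Fˣ) : F) * ca x = ((α : Fˣ) : F) * (((β : Fˣ) : F) * ca x)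
      rw [mul_assoc]
    · show (((α : Fˣ) : F) * ((β : Fˣ) : F)) ^ 2 * cb x = ((α : Fˣ) : F) ^ 2 * (((β : Fˣ) : F) ^ 2 * cb x)
      rw [mul_pow, mul_assoc]

lemma Phi_ca (α : Gq F q) (x : UU hF) : ca (Phi hF α x) = ((α : Fˣ) : F) * ca x := rfl
lemma Phi_cb (α : Gq F q) (x : UU hF) : cb (Phi hF α x) = ((α : Fˣ) : F) ^ 2 * cb x := rfl

section char2

variable (h2 : (2 : F) = 0)
include h2

lemma sq_inj_two {a a' : F} (h : a ^ 2 = a' ^ 2) : a = a' := by
  have h1 : (a - a') ^ 2 = 0 := by
    linear_combination h + (a' ^ 2 - a * a') * h2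
  exact sub_eq_zero.mp (pow_eq_zero_iff (by norm_num) |>.mp h1)

lemma sq_surj_two (β : F) : ∃ α : F, α ^ 2 = β := by
  have h1 : Function.Injective (fun a : F => a ^ 2) := fun a a' h => sq_inj_two h2 h
  exact (Finite.injective_iff_surjective.mp h1) β

/-- description of involutions -/
lemma invol_iff {x : UU hF} (h1 : x ≠ 1) (hx : x * x = 1) : ca x = 0 ∧ cb x ≠ 0 ∧ cb x ^ q = cb x := by
  have h3 : ca x = 0 := by
    have h4 : cb (x * x) = 0 := by
      rw [hx]
      rfl
    rw [sq_cb h2] at h4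
    exact pow_eq_zero_iff (by omega) |>.mp h4
  refine ⟨h3, ?_, fixed_of_zero h2 h3⟩
  intro h0
  exact h1 (UU_ext h3 h0)

/-- In a Suzuki shape. -/
theorem isSuz (hq : 4 ≤ q) : Cfsg.IsSuzukiTwoGroup (UU hF) := by
  classical
  obtain ⟨t, ht⟩ := exists_trace_one hF
  refine ⟨inferInstance, ?_, ?_, ?_, (Phi hF).range, ?_, ?_⟩
  · -- a 2-group
    intro x
    refine ⟨2, ?_⟩
    have e : x ^ (2 ^ 2) = (x * x) * (x * x) := by
      show x ^ 4 = _
      simp only [pow_succ, pow_zero, one_mul, mul_assoc]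
    show x ^ (2 ^ 2) = 1
    rw [e, fourth h2]
  · -- not abelian
    obtain ⟨b, hb⟩ := exists_b hF (1 : F)
    obtain ⟨b', hb'⟩ := exists_b hF t
    refine ⟨mkU hF 1 b hb, mkU hF t b' hb', ?_⟩
    intro he
    have h3 := congrArg cb he
    rw [cb_mul, cb_mul] at h3
    simp only [ca_mkU, cb_mkU, one_mul, one_pow, mul_one] at h3
    have h4 : t + t ^ q = 0 := by
      linear_combination h3 + t * h2
    rw [ht] at h4
    exact one_ne_zero h4
  · -- two involutions
    have hcf := card_fixed hF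
    let T : Finset F := Finset.univ.filter (fun x => x ^ q = x)
    have hT : T.card = q := by
      rw [← hcf, Nat.card_eq_fintype_card, Fintype.card_subtype]
    let S : Finset F := {0, 1}
    have hS : S.card < T.card := by
      rw [hT]
      have : S.card ≤ 2 := Finset.card_le_two
      omega
    obtain ⟨c, hcT, hcS⟩ := Finset.exists_mem_notMem_of_card_lt_card hS
    have hc0 : c ≠ 0 := fun h => hcS (by simp [S, h])
    have hc1 : c ≠ 1 := fun h => hcS (by simp [S, h])
    have hcq : c ^ q = c := (Finset.mem_filter.mp hcT).2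
    have hq1 : 1 < q := one_lt_q hF
    have hc : ∀ d : F, d ^ q = d → d + d ^ q = (0 : F) ^ (q + 1) := by
      intro d hd
      rw [hd, pow_succ, zero_pow_q hF, zero_mul]
      linear_combination d * h2
    have hsq : ∀ (d : F) (hd : d ^ q = d), mkU hF 0 d (hc d hd) * mkU hF 0 d (hc d hd) = 1 := by
      intro d hd
      apply UU_ext
      · rw [ca_mul]
        simp [ca_one]
      · rw [cb_mul]
        simp only [ca_mkU, cb_mkU, zero_mul, add_zero, cb_one]
        linear_combination d * h2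
    have hne : ∀ (d : F) (hd : d ^ q = d), d ≠ 0 → mkU hF 0 d (hc d hd) ≠ 1 := by
      intro d hd h0 he
      exact h0 (congrArg cb he)
    refine ⟨mkU hF 0 1 (hc 1 (one_pow _)), mkU hF 0 c (hc c hcq), ?_, hne 1 (one_pow _) one_ne_zero,
      hsq 1 (one_pow _), hne c hcq hc0, hsq c hcq⟩
    intro he
    exact hc1 (congrArg cb he).symm
  · -- cyclic
    exact isCyclic_of_surjective (Phi hF).rangeRestrict (Phi hF).rangeRestrict_surjective
  · -- regular
    intro x y hx1 hx2 hy1 hy2
    obtain ⟨hxa, hxb, hxq⟩ := invol_iff h2 hx1 hx2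
    obtain ⟨hya, hyb, hyq⟩ := invol_iff h2 hy1 hy2
    obtain ⟨α, hα⟩ := sq_surj_two h2 (cb y / cb x)
    have hα0 : α ≠ 0 := by
      intro h0
      rw [h0, zero_pow (by norm_num)] at hα
      exact (div_ne_zero hyb hxb) hα.symm
    have hαq : α ^ q = α := by
      apply sq_inj_two h2
      rw [← pow_mul, mul_comm, pow_mul, hα, div_pow, hxq, hyq]
    let α' : Gq F q := ⟨Units.mk0 α hα0, hαq⟩
    refine ⟨⟨Phi hF α', ⟨α', rfl⟩⟩, ?_, ?_⟩
    · apply UU_ext
      · show α * ca x = ca y
        rw [hxa, hya, mul_zero]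
      · show α ^ 2 * cb x = cb y
        rw [hα]
        field_simp
    · rintro ⟨_, ⟨γ, rfl⟩⟩ hγ
      apply Subtype.ext
      show Phi hF γ = Phi hF α'
      have h3 : ((γ : Fˣ) : F) ^ 2 * cb x = cb y := congrArg cb hγ
      have h4 : ((γ : Fˣ) : F) ^ 2 = α ^ 2 := by
        rw [hα, ← h3]
        field_simp
      have h5 : ((γ : Fˣ) : F) = α := sq_inj_two h2 h4
      have h6 : γ = α' := by
        apply Subtype.ext
        apply Units.ext
        exact h5
      rw [h6]

/-- Every central element is a commutator. -/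
lemma central_is_comm {z : UU hF} (hz : z ∈ Subgroup.center (UU hF)) : ∃ x y : UU hF, ⁅x, y⁆ = z := by
  have hz0 := (mem_center_iff h2 z).mp hz
  have hzq := fixed_of_zero h2 hz0
  obtain ⟨t, ht⟩ := exists_trace_eq hF (cb z) hzq
  obtain ⟨b, hb⟩ := exists_b hF t
  obtain ⟨b', hb'⟩ := exists_b hF (1 : F)
  refine ⟨mkU hF t b hb, mkU hF 1 b' hb', ?_⟩
  rw [commutatorElement_def, mul_inv_eq_iff_eq_mul, mul_inv_eq_iff_eq_mul]
  apply UU_ext
  · simp only [ca_mul, ca_mkU, hz0]
    ring
  · simp only [cb_mul, ca_mul, ca_mkU, cb_mkU, hz0, one_pow, zero_mul, mul_one, one_mul]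
    rw [← ht]
    linear_combination (-(t ^ q)) * h2

end char2

end Cfsg.Agent.PSU2
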