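import Mathlib
import Cfsg.Agent.Lib.PSU2.Suz
import Cfsg.Agent.S0280

/-!
The group `U` is isomorphic to every Sylow 2-subgroup of `PSU₃(2^n)`.
-/

set_option autoImplicit false
set_option linter.unusedSectionVars false
set_option linter.style.haveILetI false

namespace Cfsg.Agent.PSU2

open Matrix Cfsg.Agent.Lib.Classical

variable {F : Type*} [Field F] [Fintype F]

lemma two_eq_zero_of_card {n : ℕ} (hn : 1 ≤ n) (hF : Fintype.card F = (2 ^ n) ^ 2) : (2 : F) = 0 := by
  obtain ⟨p, k, hp, hq, hc⟩ := exists_prime_pow_of_card_eq_sq hF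
  have hdvd : p ∣ 2 ^ n := by
    rw [hq]
    apply dvd_pow_self
    rintro rfl
    rw [pow_zero] at hq
    have : 2 ≤ 2 ^ n := by
      calc 2 = 2 ^ 1 := by norm_num
        _ ≤ 2 ^ n := Nat.pow_le_pow_right (by norm_num) hn
    omega
  have hp2 : p = 2 := (Nat.prime_dvd_prime_iff_eq hp Nat.prime_two).mp (hp.dvd_of_dvd_pow hdvd)
  subst hp2
  exact_mod_cast CharP.cast_eq_zero F 2

variable {n : ℕ} (hn : 1 ≤ n) (hF : Fintype.card F = (2 ^ n) ^ 2)

include hn in
/-- The embedding into `PSU₃`. -/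
lemma exists_embedding : ∃ f : UU hF →* Cfsg.PSU 3 F (2 ^ n), Function.Injective f := by
  classical
  have h2 := two_eq_zero_of_card hn hF
  refine ⟨(QuotientGroup.mk' (Subgroup.center (Cfsg.SU 3 F (2 ^ n)))).comp (toSU hF h2), ?_⟩
  rw [injective_iff_map_eq_one]
  intro x hx
  have hmem : toSU hF h2 x ∈ Subgroup.center (Cfsg.SU 3 F (2 ^ n)) := by
    have := (QuotientGroup.eq_one_iff (toSU hF h2 x)).mp hx
    exact this
  have hcard := card_center_SU (n := 3) hF (by norm_num)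
  have hodd : Odd (Nat.gcd 3 (2 ^ n + 1)) := by
    have h3 : Odd 3 := by norm_num
    exact Odd.of_dvd_nat h3 (Nat.gcd_dvd_left _ _)
  -- the element has order dividing four and an odd number
  have h4 : (⟨toSU hF h2 x, hmem⟩ : Subgroup.center (Cfsg.SU 3 F (2 ^ n))) ^ 4 = 1 := by
    apply Subtype.ext
    show (toSU hF h2 x) ^ 4 = 1
    rw [← map_pow]
    have e : x ^ 4 = (x * x) * (x * x) := by
      simp only [pow_succ, pow_zero, one_mul, mul_assoc]
    rw [e, fourth h2, map_one]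
  have h5 := orderOf_dvd_of_pow_eq_one h4
  have h6 := orderOf_dvd_natCard (⟨toSU hF h2 x, hmem⟩ : Subgroup.center (Cfsg.SU 3 F (2 ^ n)))
  rw [hcard] at h6
  have hcop : Nat.Coprime 4 (Nat.gcd 3 (2 ^ n + 1)) := by
    have : (4 : ℕ) = 2 ^ 2 := by norm_num
    rw [this]
    exact Nat.Coprime.pow_left 2 (Nat.coprime_two_left.mpr hodd)
  have h7 := Nat.eq_one_of_dvd_coprimes hcop h5 h6
  rw [orderOf_eq_one_iff] at h7
  have h8 : toSU hF h2 x = 1 := congrArg Subtype.val h7
  exact toSU_inj h2 (h8.trans (map_one _).symm)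

include hn hF in
/-- The order of `PSU₃(2^n)` at two. -/
lemma factorization_PSU : (Nat.card (Cfsg.PSU 3 F (2 ^ n))).factorization 2 = 3 * n := by
  classical
  have h := Cfsg.Agent.S0280.result hF 3 (by norm_num)
  set q := 2 ^ n with hq
  have hq2 : 2 ≤ q := by
    calc 2 = 2 ^ 1 := by norm_num
      _ ≤ 2 ^ n := Nat.pow_le_pow_right (by norm_num) hn
  have hev : Even q := by
    rw [hq]
    exact (Nat.even_pow' (by omega)).mpr even_two
  have hprod : ∏ i ∈ Finset.range 3, (if Even i then q ^ (i + 1) + 1 else q ^ (i + 1) - 1) =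
      (q + 1) * (q ^ 2 - 1) * (q ^ 3 + 1) := by
    simp [Finset.prod_range_succ]
  rw [hprod] at h
  have hq3 : 3 * (3 - 1) / 2 = 3 := by norm_num
  rw [hq3] at h
  have hpos : 0 < q + 1 := by omega
  have h' : Nat.gcd 3 (q + 1) * Nat.card (Cfsg.PSU 3 F q) = q ^ 3 * ((q ^ 2 - 1) * (q ^ 3 + 1)) := by
    apply Nat.eq_of_mul_eq_mul_left hpos
    linear_combination h
  have hoddq2 : ¬ 2 ∣ (q ^ 2 - 1) := by
    have h1 : 4 ≤ q ^ 2 := by nlinarith
    obtain ⟨k, hk⟩ := hev
    have h3 : q ^ 2 = 2 * (2 * k * k) := by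
      rw [hk]
      ring
    omega
  have hoddq3 : ¬ 2 ∣ (q ^ 3 + 1) := by
    obtain ⟨k, hk⟩ := hev
    have h3 : q ^ 3 = 2 * (k * (q ^ 2)) := by
      rw [pow_succ, pow_two]
      rw [hk]
      ring
    omega
  have hgcd : ¬ 2 ∣ Nat.gcd 3 (q + 1) := by
    intro hd
    have := hd.trans (Nat.gcd_dvd_left _ _)
    omega
  have hcpos : Nat.card (Cfsg.PSU 3 F q) ≠ 0 := by
    intro h0
    rw [h0, mul_zero] at h'
    have h4 : 0 < q ^ 3 := by positivity
    have h5 : 0 < q ^ 2 - 1 := by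
      have : 4 ≤ q ^ 2 := by nlinarith
      omega
    have h6 : 0 < q ^ 3 + 1 := by positivity
    have : 0 < q ^ 3 * ((q ^ 2 - 1) * (q ^ 3 + 1)) := by positivity
    omega
  have hfac := congrArg (fun m => m.factorization 2) h'
  have hgpos : Nat.gcd 3 (q + 1) ≠ 0 := by
    intro h0
    rw [h0] at hgcd
    exact hgcd (dvd_zero _)
  have h5 : q ^ 2 - 1 ≠ 0 := fun h0 => hoddq2 (h0 ▸ dvd_zero _)
  have h6 : q ^ 3 + 1 ≠ 0 := by positivity
  have hq0 : q ^ 3 ≠ 0 := by positivity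
  rw [Nat.factorization_mul hgpos hcpos, Nat.factorization_mul hq0 (mul_ne_zero h5 h6),
    Nat.factorization_mul h5 h6] at hfac
  simp only [Finsupp.add_apply] at hfac
  rw [Nat.factorization_eq_zero_of_not_dvd hgcd, Nat.factorization_eq_zero_of_not_dvd hoddq2,
    Nat.factorization_eq_zero_of_not_dvd hoddq3, zero_add, add_zero, add_zero] at hfac
  rw [hfac, hq, ← pow_mul, Nat.Prime.factorization_pow Nat.prime_two]
  simp [mul_comm]

include hn in
/-- Every Sylow 2-subgroup of `PSU₃(2^n)` is a copy of `U`. -/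
theorem sylow_equiv (S : Sylow 2 (Cfsg.PSU 3 F (2 ^ n))) : Nonempty ((S : Subgroup (Cfsg.PSU 3 F (2 ^ n))) ≃* UU hF) := by
  classical
  haveI : Fact (Nat.Prime 2) := ⟨Nat.prime_two⟩
  obtain ⟨f, hf⟩ := exists_embedding hn hF
  have h2 := two_eq_zero_of_card hn hF
  have hcard : Nat.card f.range = 2 ^ (Nat.card (Cfsg.PSU 3 F (2 ^ n))).factorization 2 := by
    rw [factorization_PSU hn hF, Nat.card_congr (MonoidHom.ofInjective hf).symm.toEquiv, card_UU h2, ← pow_mul,
      mul_comm]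
  let P : Sylow 2 (Cfsg.PSU 3 F (2 ^ n)) := Sylow.ofCard f.range hcard
  have hP : (P : Subgroup (Cfsg.PSU 3 F (2 ^ n))) = f.range := Sylow.coe_ofCard _ _
  exact ⟨(Sylow.equiv S P).trans ((MulEquiv.subgroupCongr hP).trans (MonoidHom.ofInjective hf).symm)⟩

theorem sylow_equiv' {q : ℕ} (hq : q = 2 ^ n) (hF : Fintype.card F = q ^ 2) (hn : 1 ≤ n)
    (S : Sylow 2 (Cfsg.PSU 3 F q)) : Nonempty ((S : Subgroup (Cfsg.PSU 3 F q)) ≃* UU hF) := by
  subst hq
  exact sylow_equiv hn hF S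

/-- Transport of the Suzuki property. -/
theorem suz_of_equiv {P P' : Type*} [Group P] [Group P'] (e : P ≃* P') (h : Cfsg.IsSuzukiTwoGroup P') :
    Cfsg.IsSuzukiTwoGroup P := by
  obtain ⟨hfin, htwo, ⟨a, b, hab⟩, ⟨x, y, hxy, hx1, hx2, hy1, hy2⟩, K, hK, hreg⟩ := h
  let c : MulAut P' ≃* MulAut P := MulAut.congr e.symm
  have hc : ∀ (k : MulAut P') (p : P), c k p = e.symm (k (e p)) := fun _ _ => rfl
  have hone : ∀ z : P', z ≠ 1 → e.symm z ≠ 1 := by
    intro z hz h0
    exact hz (e.symm.injective (h0.trans (map_one e.symm).symm))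
  have hmul : ∀ z : P', z * z = 1 → e.symm z * e.symm z = 1 := by
    intro z hz
    rw [← map_mul, hz, map_one]
  refine ⟨Finite.of_equiv P' e.symm.toEquiv, htwo.of_injective e.toMonoidHom e.injective, ⟨e.symm a, e.symm b, ?_⟩,
    ⟨e.symm x, e.symm y, ?_, hone x hx1, hmul x hx2, hone y hy1, hmul y hy2⟩, K.map c.toMonoidHom, ?_, ?_⟩
  · intro he
    apply hab
    have := congrArg e he
    simpa using this
  · intro he
    exact hxy (e.symm.injective he)
  · haveI : IsCyclic K := hK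
    exact isCyclic_of_surjective (c.toMonoidHom.subgroupMap K) (c.toMonoidHom.subgroupMap_surjective K)
  · intro u v hu1 hu2 hv1 hv2
    have he1 : ∀ w : P, w ≠ 1 → e w ≠ 1 := by
      intro w hw h0
      exact hw (e.injective (h0.trans (map_one e).symm))
    have he2 : ∀ w : P, w * w = 1 → e w * e w = 1 := by
      intro w hw
      rw [← map_mul, hw, map_one]
    obtain ⟨k, hk, hu⟩ := hreg (e u) (e v) (he1 u hu1) (he2 u hu2) (he1 v hv1) (he2 v hv2)
    refine ⟨⟨c k, k, k.2, rfl⟩, ?_, ?_⟩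
    · show c k u = v
      rw [hc, hk, MulEquiv.symm_apply_apply]
    · rintro ⟨_, l, hl, rfl⟩ hl2
      have hl3 : c l u = v := hl2
      rw [hc] at hl3
      have h5 : l (e u) = e v := by
        rw [← hl3, MulEquiv.apply_symm_apply]
      have h6 : (⟨l, hl⟩ : K) = k := hu ⟨l, hl⟩ h5
      apply Subtype.ext
      show c l = c k
      rw [show l = (k : MulAut P') from congrArg Subtype.val h6]

lemma mem_center_of_equiv {P P' : Type*} [Group P] [Group P'] (e : P ≃* P') (x : P) :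
    e x ∈ Subgroup.center P' ↔ x ∈ Subgroup.center P := by
  rw [Subgroup.mem_center_iff, Subgroup.mem_center_iff]
  constructor
  · intro h g
    apply e.injective
    rw [map_mul, map_mul, h]
  · intro h g
    obtain ⟨g', rfl⟩ := e.surjective g
    rw [← map_mul, ← map_mul, h]

end Cfsg.Agent.PSU2
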